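import Groth.Agent.Deform.K683.Quot.SmExt
import Mathlib.AlgebraicGeometry.Morphisms.Smooth
import Mathlib.AlgebraicGeometry.Stalk
import Mathlib.AlgebraicGeometry.Noetherian

/-!
# Smoothness at a rational point by lifting along small extensions
-/

set_option autoImplicit false
set_option backward.isDefEq.respectTransparency false
universe u

open CategoryTheory CategoryTheory.Limits AlgebraicGeometry IsLocalRing

namespace K683.Crit

theorem exists_map_fromSpec {X : Scheme.{u}} {U : X.Opens} (hU : IsAffineOpen U) {R : CommRingCat.{u}}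
    (a : Spec R ⟶ X) (h : a ⁻¹ᵁ U = ⊤) : ∃ φ : Γ(X, U) ⟶ R, Spec.map φ ≫ hU.fromSpec = a := by
  refine ⟨Spec.preimage (IsOpenImmersion.lift hU.fromSpec a ?_), ?_⟩
  · rw [hU.range_fromSpec]
    rintro _ ⟨x, rfl⟩
    have : x ∈ a ⁻¹ᵁ U := h ▸ trivial
    exact this
  · rw [Spec.map_preimage, IsOpenImmersion.lift_fac]

/-- Smoothness at a rational point from lifting along small extensions with the same residue field. -/
theorem mem_smoothLocus_of_lifting {Q S : Scheme.{u}} (f : Q ⟶ S) [IsLocallyNoetherian S]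
    [LocallyOfFinitePresentation f] {k : Type u} [Field k] (π : Q ⟶ Spec (CommRingCat.of k))
    (γ : Spec (CommRingCat.of k) ⟶ Q) (hγ : γ ≫ π = 𝟙 _)
    (H : ∀ (B : Type u) [CommRing B] [IsArtinianRing B] [IsLocalRing B] (ε : B), ε ≠ 0 → ε ∈ maximalIdeal B →
      (∀ m ∈ maximalIdeal B, ε * m = 0) →
      ∀ (ψ : B ⧸ Ideal.span {ε} →+* k), Function.Surjective ψ →
      ∀ (α : Spec (CommRingCat.of (B ⧸ Ideal.span {ε})) ⟶ Q) (β : Spec (CommRingCat.of B) ⟶ S),
        Spec.map (CommRingCat.ofHom (Ideal.Quotient.mk (Ideal.span {ε}))) ≫ β = α ≫ f →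
        Spec.map (CommRingCat.ofHom ψ) ≫ α = γ →
        ∃ δ : Spec (CommRingCat.of B) ⟶ Q,
          Spec.map (CommRingCat.ofHom (Ideal.Quotient.mk (Ideal.span {ε}))) ≫ δ = α ∧ δ ≫ f = β) :
    γ (closedPoint k) ∈ f.smoothLocus := by
  set x := γ (closedPoint k) with hx
  obtain ⟨U, hU, hxU⟩ : ∃ U : S.Opens, IsAffineOpen U ∧ f x ∈ U := by
    obtain ⟨_, ⟨U, hU, rfl⟩, hxU, -⟩ :=
      S.isBasis_affineOpens.exists_subset_of_mem_open (Set.mem_univ (f x)) isOpen_univ
    exact ⟨U, hU, hxU⟩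
  obtain ⟨V, hV, hxV, e⟩ : ∃ V : Q.Opens, IsAffineOpen V ∧ x ∈ V ∧ V ≤ f ⁻¹ᵁ U := by
    obtain ⟨_, ⟨V, hV, rfl⟩, hxV, hVU⟩ :=
      Q.isBasis_affineOpens.exists_subset_of_mem_open hxU (U.2.preimage f.continuous)
    exact ⟨V, hV, hxV, hVU⟩
  have hft : (f.appLE U V e).hom.FiniteType := f.finiteType_appLE hU hV e
  have : IsNoetherianRing Γ(S, U) := IsLocallyNoetherian.component_noetherian ⟨U, hU⟩
  algebraize [(f.appLE U V e).hom]
  -- the point
  have hγV : γ ⁻¹ᵁ V = ⊤ := Scheme.preimage_eq_top_of_closedPoint_mem (R := CommRingCat.of k) γ hxV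
  obtain ⟨g₀, hg₀⟩ := exists_map_fromSpec hV γ hγV
  have hg₀s : Function.Surjective g₀ := by
    -- `Γ(Q, V) → k` is a retraction
    intro a
    have h1 : Spec.map g₀ ≫ hV.fromSpec ≫ π = 𝟙 _ := by rw [reassoc_of% hg₀, hγ]
    obtain ⟨r, hr⟩ : ∃ r : CommRingCat.of k ⟶ Γ(Q, V), Spec.map r = hV.fromSpec ≫ π :=
      ⟨Spec.preimage _, Spec.map_preimage _⟩
    rw [← hr, ← Spec.map_comp] at h1
    have h2 : r ≫ g₀ = 𝟙 _ := Spec.map_injective (h1.trans (Spec.map_id _).symm)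
    exact ⟨r a, congr($h2 a)⟩
  let q : Ideal Γ(Q, V) := RingHom.ker g₀.hom
  have hq : q.IsMaximal := RingHom.ker_isMaximal_of_surjective g₀.hom hg₀s
  have hxq : hV.primeIdealOf ⟨x, hxV⟩ = ⟨q, hq.isPrime⟩ := by
    have h1 : hV.fromSpec ⟨q, hq.isPrime⟩ = x := by
      rw [hx, ← hg₀, Scheme.Hom.comp_apply]
      congr 1
      refine PrimeSpectrum.ext ?_
      change q = Ideal.comap g₀.hom (maximalIdeal k)
      rw [maximalIdeal_eq_bot]
      rfl
    have h2 : hV.fromSpec (hV.primeIdealOf ⟨x, hxV⟩) = x := hV.fromSpec_primeIdealOf ⟨x, hxV⟩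
    exact hV.fromSpec.isOpenEmbedding.injective (h2.trans h1.symm)
  rw [Scheme.Hom.mem_smoothLocus, formallySmooth_stalkMap_iff U hU V hV e hxV, hxq]
  change Algebra.FormallySmooth Γ(S, U) (Localization.AtPrime q)
  refine K683.SmExt.formallySmooth_of_surjective_lifting q ?_
  intro B _ _ _ _ _ ε hε0 hε hεm g hgs hgu
  have hne : Ideal.span {ε} ≠ ⊤ := by
    intro h
    have h2 : Ideal.span {ε} ≤ maximalIdeal B := by rwa [Ideal.span_singleton_le_iff_mem]
    exact (Ideal.ne_top_iff_one _).mp (Ideal.IsPrime.ne_top (I := maximalIdeal B) inferInstance)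
      (h2 (h ▸ Submodule.mem_top))
  have : Nontrivial (B ⧸ Ideal.span {ε}) := Ideal.Quotient.nontrivial_iff.2 hne
  have : IsLocalRing (B ⧸ Ideal.span {ε}) :=
    IsLocalRing.of_surjective' (Ideal.Quotient.mk _) Ideal.Quotient.mk_surjective
  -- the residue map
  have hker : RingHom.ker g.toRingHom ≤ RingHom.ker g₀.hom := by
    intro r hr
    by_contra h
    have h1 := (hgu r).2 h
    rw [show g r = 0 from hr] at h1
    exact not_isUnit_zero h1
  let ψ : B ⧸ Ideal.span {ε} →+* k := (Ideal.Quotient.lift (RingHom.ker g.toRingHom) g₀.hom (fun r hr => hker hr)).comp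
    (RingHom.quotientKerEquivOfSurjective (f := g.toRingHom) hgs).symm.toRingHom
  have hψ : ∀ r, ψ (g r) = g₀ r := by
    intro r
    have h1 : (RingHom.quotientKerEquivOfSurjective (f := g.toRingHom) hgs).symm (g r) =
        Ideal.Quotient.mk _ r := by
      rw [RingEquiv.symm_apply_eq]
      rfl
    change (Ideal.Quotient.lift (RingHom.ker g.toRingHom) g₀.hom (fun r hr => hker hr))
      ((RingHom.quotientKerEquivOfSurjective (f := g.toRingHom) hgs).symm (g r)) = _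
    rw [h1, Ideal.Quotient.lift_mk]
  have hψs : Function.Surjective ψ := fun a => by
    obtain ⟨r, rfl⟩ := hg₀s a
    exact ⟨g r, hψ r⟩
  let a : Γ(S, U) ⟶ CommRingCat.of B := CommRingCat.ofHom (algebraMap Γ(S, U) B)
  let b : Γ(Q, V) ⟶ CommRingCat.of (B ⧸ Ideal.span {ε}) := CommRingCat.ofHom g.toRingHom
  let φ : CommRingCat.of B ⟶ CommRingCat.of (B ⧸ Ideal.span {ε}) :=
    CommRingCat.ofHom (Ideal.Quotient.mk (Ideal.span {ε}))
  have hab : a ≫ φ = f.appLE U V e ≫ b := by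
    refine CommRingCat.hom_ext (RingHom.ext fun x ↦ ?_)
    exact (g.commutes x).symm
  have hbψ : b ≫ CommRingCat.ofHom ψ = g₀ := by
    refine CommRingCat.hom_ext (RingHom.ext fun x ↦ ?_)
    exact hψ x
  obtain ⟨γ', hγ1, hγ2⟩ := H B ε hε0 hε hεm ψ hψs
    (Spec.map b ≫ hV.fromSpec) (Spec.map a ≫ hU.fromSpec) (by
      change Spec.map φ ≫ _ = _
      rw [Category.assoc, ← hU.SpecMap_appLE_fromSpec f hV e, ← Spec.map_comp_assoc, hab,
        Spec.map_comp_assoc]) (by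
      rw [← Spec.map_comp_assoc, hbψ, hg₀])
  change Spec.map φ ≫ γ' = _ at hγ1
  have hloc : IsLocalHom φ.hom :=
    IsLocalHom.of_surjective (Ideal.Quotient.mk (Ideal.span {ε})) Ideal.Quotient.mk_surjective
  have hγV : γ' ⁻¹ᵁ V = ⊤ := by
    refine Scheme.preimage_eq_top_of_closedPoint_mem (R := CommRingCat.of B) γ' ?_
    have h1 : γ' (IsLocalRing.closedPoint B) =
        (Spec.map φ ≫ γ') (IsLocalRing.closedPoint (B ⧸ Ideal.span {ε})) := by
      rw [Scheme.Hom.comp_apply]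
      congr 1
      exact (Spec_closedPoint (f := φ)).symm
    rw [h1, hγ1, Scheme.Hom.comp_apply]
    have : hV.fromSpec (Spec.map b (IsLocalRing.closedPoint (B ⧸ Ideal.span {ε}))) ∈
      Set.range hV.fromSpec := ⟨_, rfl⟩
    rwa [hV.range_fromSpec] at this
  obtain ⟨ψ', hψ'⟩ := exists_map_fromSpec hV γ' hγV
  have h1 : ψ' ≫ φ = b := by
    rw [← hψ', ← Spec.map_comp_assoc, cancel_mono, Spec.map_inj] at hγ1
    exact hγ1
  have h2 : f.appLE U V e ≫ ψ' = a := by
    rw [← hψ', Category.assoc, ← hU.SpecMap_appLE_fromSpec f hV e, ← Spec.map_comp_assoc,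
      cancel_mono, Spec.map_inj] at hγ2
    exact hγ2
  refine ⟨{ toRingHom := ψ'.hom, commutes' := fun r ↦ congr($h2 r) }, ?_⟩
  exact AlgHom.ext fun x ↦ congr($h1 x)

end K683.Crit
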