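import Groth.Agent.Deform.K683.Quot.FgaSq
import Groth.Agent.Deform.K683.Quot.Crit

/-!
# Smoothness of the Quot scheme at a point with vanishing `Ext¹`
-/

set_option autoImplicit false
set_option backward.isDefEq.respectTransparency false
universe w u

open CategoryTheory CategoryTheory.Limits AlgebraicGeometry IsLocalRing

namespace K683.QSec

open Groth.Agent

variable {X S : Scheme.{u}} (x : X ⟶ S) (H : X.Modules)

/-- The small extension `B → B / ε`. -/
theorem small_of_span {B k : Type u} [CommRing B] [IsLocalRing B] [Field k] (ε : B) (hε0 : ε ≠ 0)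
    (hεm : ∀ m ∈ maximalIdeal B, ε * m = 0) (ψ : B ⧸ Ideal.span {ε} →+* k)
    (hψ : Function.Surjective ψ) :
    Small (Ideal.Quotient.mk (Ideal.span {ε})) (ψ.comp (Ideal.Quotient.mk (Ideal.span {ε})))
      (fun _ : Fin 1 => ε) := by
  have hs : Function.Surjective (ψ.comp (Ideal.Quotient.mk (Ideal.span {ε}))) :=
    hψ.comp Ideal.Quotient.mk_surjective
  have hker : RingHom.ker (ψ.comp (Ideal.Quotient.mk (Ideal.span {ε}))) = maximalIdeal B :=
    IsLocalRing.eq_maximalIdeal (RingHom.ker_isMaximal_of_surjective _ hs)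
  refine ⟨Ideal.Quotient.mk_surjective, hs, fun b hb => ?_, fun _ => ?_, fun b hb => ?_, fun m b hm hb => ?_,
    fun c hc i => ?_⟩
  · rw [RingHom.comp_apply, hb, map_zero]
  · exact Ideal.Quotient.eq_zero_iff_mem.2 (Ideal.mem_span_singleton_self ε)
  · obtain ⟨c, rfl⟩ := Ideal.mem_span_singleton'.1 (Ideal.Quotient.eq_zero_iff_mem.1 hb)
    exact ⟨fun _ => c, by simp⟩
  · obtain ⟨c, rfl⟩ := Ideal.mem_span_singleton'.1 (Ideal.Quotient.eq_zero_iff_mem.1 hb)
    have hm' : m ∈ maximalIdeal B := by rw [← hker]; exact hm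
    rw [mul_left_comm, mul_comm m, hεm m hm', mul_zero]
  · obtain rfl : i = 0 := Subsingleton.elim _ _
    rw [Fin.sum_univ_one] at hc
    rw [← RingHom.mem_ker, hker, mem_maximalIdeal, mem_nonunits_iff]
    intro h
    exact hε0 ((h.mul_left_eq_zero).1 hc)

/-- **Smoothness of Quot at a point with vanishing `Ext¹`.** -/
theorem quot_mem_smoothLocus {k : Type u} [Field k] [IsLocallyNoetherian S] (σ : S ⟶ Spec (CommRingCat.of k))
    (hH : Coh.IsCoh H) (hHf : FlatMod.IsFlatOver x H)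
    (Q : Over S) (Ku : FGA.QuotSet x H Q) (hQ : FGA.QuotRepresentedBy x H Q Ku)
    [LocallyOfFinitePresentation Q.hom]
    (s : (Spec (CommRingCat.of k)) ⟶ S) (hs : s ≫ σ = 𝟙 _)
    (K₀ : FGA.QuotSet x H (Over.mk s)) (g : (Over.mk s) ⟶ Q) (hg : FGA.quotPull x H g Ku.1 = K₀.1)
    [HasExt.{w} (PicF.XT x (Over.mk s)).Modules]
    (hExt : Subsingleton (Abelian.Ext.{w} (Subobject.underlying.obj K₀.1) (cokernel K₀.1.arrow) 1)) :
    g.left (closedPoint k) ∈ Q.hom.smoothLocus := by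
  have hQ1 := hQ.1
  have hgs : g.left ≫ Q.hom = s := Over.w g
  refine Crit.mem_smoothLocus_of_lifting Q.hom (Q.hom ≫ σ) g.left (by rw [reassoc_of% hgs, hs]) ?_
  intro B _ _ _ ε hε0 hε hεm ψ hψ α β hαβ hα
  have hS := small_of_span ε hε0 hεm ψ hψ
  -- the family over `B / ε`
  let a : Over.mk (α ≫ Q.hom) ⟶ Q := Over.homMk α rfl
  let K : FGA.QuotSet x H (Over.mk (α ≫ Q.hom)) := ⟨FGA.quotPull x H a Ku.1, Fga.QuotPull.quotPull_mem x H a Ku.2⟩
  have h0 : Spec.map (CommRingCat.ofHom ψ) ≫ α ≫ Q.hom = s := by rw [reassoc_of% hα, hgs]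
  have hcomp : hm ψ h0 ≫ a = g := by
    ext1
    exact hα
  let _ : (PicF.XT x (Over.mk s)).Over (Spec (CommRingCat.of k)) := ⟨PicF.XTproj x (Over.mk s)⟩
  obtain ⟨ob, hob⟩ := quot_obstruction x H hS hH hHf (tA := α ≫ Q.hom) (t0 := s) hαβ ψ rfl h0 K K₀
    (by rw [← hg, ← hcomp, Fga.QuotPull.quotPull_comp])
  have hob0 : ob 0 = 0 := Subsingleton.elim _ _
  have : IsNoetherianRing B := inferInstance
  have hnil : IsNilpotent (maximalIdeal B) := (isArtinianRing_iff_isNilpotent_maximalIdeal B).1 inferInstance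
  obtain ⟨KC, hKC⟩ := hob (fun _ => 1) ⟨0, one_ne_zero⟩ (by rw [Fin.sum_univ_one, hob0, smul_zero])
    hnil (RingHom.id B) (Ideal.Quotient.mk (Ideal.span {ε})) (RingHom.comp_id _)
    (fun b => ⟨b, rfl⟩) Ideal.Quotient.mk_surjective
    (ψ.comp (Ideal.Quotient.mk (Ideal.span {ε}))) (RingHom.comp_id _) (fun b => by
      constructor
      · intro hb
        refine ⟨0, ?_, ?_⟩
        · rw [show b = 0 from hb]
          simp
        · simp
      · rintro ⟨c, rfl, hc⟩
        rw [Fin.sum_univ_one] at hc ⊢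
        rw [one_mul] at hc
        exact hS.mul _ _ hc (hS.eps 0))
    (tC := β) (by
      change Spec.map (𝟙 _) ≫ β = β
      rw [Spec.map_id, Category.id_comp]) hαβ
  have i1 : IsLocallyNoetherian (Over.mk β).left := by
    change IsLocallyNoetherian (Spec (CommRingCat.of B))
    infer_instance
  have i2 : IsLocallyNoetherian (Over.mk (α ≫ Q.hom)).left := by
    change IsLocallyNoetherian (Spec (CommRingCat.of (B ⧸ Ideal.span {ε})))
    infer_instance
  obtain ⟨δ, hδ, -⟩ := hQ.2 (Over.mk β) KC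
  refine ⟨δ.left, ?_, Over.w δ⟩
  obtain ⟨γ, -, hγ⟩ := hQ.2 (Over.mk (α ≫ Q.hom)) K
  have h1 : hm (Ideal.Quotient.mk (Ideal.span {ε})) hαβ ≫ δ = γ := hγ _ (by
    change FGA.quotPull x H _ Ku.1 = K.1
    rw [Fga.QuotPull.quotPull_comp, hδ, hKC])
  have h2 : a = γ := hγ _ rfl
  have h3 := congrArg CommaMorphism.left (h1.trans h2.symm)
  exact h3

end K683.QSec
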