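import Groth.Agent.Deform.K683.Quot.Tan
import Groth.Agent.Hensel.JacDim

/-!
# Relative dimension of the Quot scheme at a smooth point
-/

set_option autoImplicit false
universe u
open CategoryTheory CategoryTheory.Limits AlgebraicGeometry IsLocalRing

namespace K683.Tan2

open Groth.Agent Groth.Agent.Hensel.JacDer Groth.Agent.Hensel.JacTan Groth.Agent.Hensel.JacDim

section smooth

/-- A smooth point has a smooth chart of some relative dimension. -/
theorem exists_chart {X Y : Scheme.{u}} (f : X ⟶ Y) [LocallyOfFinitePresentation f] {x : X}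
    (hx : x ∈ f.smoothLocus) : ∃ (n : ℕ) (W : Scheme.{u}) (c : W ⟶ X) (_ : IsOpenImmersion c),
      x ∈ Set.range c ∧ SmoothOfRelativeDimension n (c ≫ f) := by
  have h1 : (f.smoothLocus.ι ≫ f).smoothLocus = ⊤ := by
    rw [← Scheme.Hom.preimage_smoothLocus_eq]
    ext y
    simp
  have h2 : Smooth (f.smoothLocus.ι ≫ f) := Scheme.Hom.smoothLocus_eq_top_iff.1 h1
  obtain ⟨U, hU, V, hV, hy, e, hst⟩ := Smooth.exists_isStandardSmooth (f.smoothLocus.ι ≫ f) ⟨x, hx⟩
  obtain ⟨n, hn⟩ := Picfga.CurveRelDim.exists_relativeDimension hst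
  refine ⟨n, _, hV.fromSpec ≫ f.smoothLocus.ι, inferInstance, ?_, ?_⟩
  · have : (⟨x, hx⟩ : f.smoothLocus) ∈ Set.range hV.fromSpec := by
      rw [hV.range_fromSpec]
      exact hy
    obtain ⟨z, hz⟩ := this
    refine ⟨z, ?_⟩
    rw [Scheme.Hom.comp_apply, hz]
    rfl
  · rw [Category.assoc, ← IsAffineOpen.SpecMap_appLE_fromSpec (f.smoothLocus.ι ≫ f) hU hV e]
    have h3 : SmoothOfRelativeDimension n (Spec.map ((f.smoothLocus.ι ≫ f).appLE U V e)) := by
      rw [HasRingHomProperty.Spec_iff (P := @SmoothOfRelativeDimension n)]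
      exact RingHom.locally_of RingHom.isStandardSmoothOfRelativeDimension_respectsIso _ hn
    exact inferInstanceAs (SmoothOfRelativeDimension (n + 0) _)

/-- Tangent data at a rational point of a smooth scheme of relative dimension `n` over a field. -/
theorem exists_tangentData_smooth {k : Type u} [Field k] (n : ℕ) {J : Over (Spec (CommRingCat.of k))}
    [SmoothOfRelativeDimension n J.hom] (x : pt k ⟶ J) : ∃ t : TangentData x, Module.finrank k t.D = n := by
  obtain ⟨U, hU, V, hV, hyV, e, hst⟩ :=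
    SmoothOfRelativeDimension.exists_isStandardSmoothOfRelativeDimension (n := n) (f := J.hom)
      (x.left (closedPoint k))
  obtain rfl : U = ⊤ := by
    ext z
    have : z = J.hom (x.left (closedPoint k)) := Subsingleton.elim _ _
    subst this
    exact ⟨fun _ => trivial, fun _ => e hyV⟩
  exact exists_tangentData n V hV e hst x fun y => by
    have : y = closedPoint k := Subsingleton.elim (α := PrimeSpectrum k) _ _
    rw [this]
    exact hyV

end smooth

section main

variable {X S : Scheme.{u}} (x : X ⟶ S) (H : X.Modules) {k : Type u} [Field k]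

/-- The relative dimension of a smooth chart of the Quot scheme is the dimension of `Hom(K₀, F₀)`. -/
theorem eq_finrank_hom (hH : Coh.IsCoh H) (hHf : FlatMod.IsFlatOver x H)
    (Q : Over S) (Ku : FGA.QuotSet x H Q) (hQ : FGA.QuotRepresentedBy x H Q Ku)
    {s : Spec (CommRingCat.of k) ⟶ S}
    (K₀ : FGA.QuotSet x H (Over.mk s)) (g : Over.mk s ⟶ Q) (hg : FGA.quotPull x H g Ku.1 = K₀.1)
    {n : ℕ} {W : Scheme.{u}} (c : W ⟶ Q.left) [IsOpenImmersion c] (hc : g.left (closedPoint k) ∈ Set.range c)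
    [hsm : SmoothOfRelativeDimension n (c ≫ Q.hom)] :
    letI : (PicF.XT x (Over.mk s)).Over (Spec (CommRingCat.of k)) := ⟨PicF.XTproj x (Over.mk s)⟩
    n = Module.finrank k (Subobject.underlying.obj K₀.1 ⟶ cokernel K₀.1.arrow) := by
  let J : Over (Spec (CommRingCat.of k)) := Over.mk (pullback.snd (c ≫ Q.hom) s)
  have hbc := smoothOfRelativeDimension_isStableUnderBaseChange n
  have hJ : SmoothOfRelativeDimension n J.hom :=
    MorphismProperty.pullback_snd (P := @SmoothOfRelativeDimension n) (c ≫ Q.hom) s hsm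
  have hpt : ∀ y : (pt k).left, y = closedPoint k := fun y => Subsingleton.elim (α := PrimeSpectrum k) _ _
  have hgs : g.left ≫ Q.hom = s := Over.w g
  let γ : Spec (CommRingCat.of k) ⟶ W := IsOpenImmersion.lift c g.left (by
    rintro _ ⟨y, rfl⟩
    rw [hpt y]
    exact hc)
  have hγ : γ ≫ c = g.left := IsOpenImmersion.lift_fac _ _ _
  let x' : pt k ⟶ J := Over.homMk (pullback.lift γ (𝟙 _) (by
    rw [Category.id_comp, reassoc_of% hγ, hgs])) (pullback.lift_snd _ _ _)
  obtain ⟨t, ht⟩ := exists_tangentData_smooth n x'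
  rw [← ht]
  let π : J.left ⟶ Q.left := pullback.fst (c ≫ Q.hom) s ≫ c
  have hπ : π ≫ Q.hom = J.hom ≫ s := by
    change (pullback.fst (c ≫ Q.hom) s ≫ c) ≫ Q.hom = pullback.snd (c ≫ Q.hom) s ≫ s
    rw [Category.assoc, pullback.condition]
  have hx'π : x'.left ≫ π = g.left := by
    change pullback.lift γ (𝟙 _) _ ≫ pullback.fst (c ≫ Q.hom) s ≫ c = _
    rw [pullback.lift_fst_assoc, hγ]
  have hπm : ∀ {Z : Over (Spec (CommRingCat.of k))} (a b : Z ⟶ J), a.left ≫ π = b.left ≫ π → a = b := by
    intro Z a b h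
    ext1
    refine pullback.hom_ext ?_ ?_
    · rw [← cancel_mono c, Category.assoc, Category.assoc]
      exact h
    · exact (Over.w a).trans (Over.w b).symm
  refine K683.QSec.finrank_eq_finrank_hom x H hH hHf Q Ku hQ (s := s)
    (fun r => Spec.map (CommRingCat.ofHom (algebraMap k (K683.QSec.TB k r))) ≫ s) ?_ ?_ ?_ K₀ g hg
    (fun r d => Over.homMk ((t.Ψ r d).left ≫ π) (by
      change ((t.Ψ r d).left ≫ π) ≫ Q.hom = _
      rw [Category.assoc, hπ, ← Category.assoc]
      exact congrArg (· ≫ s) (Over.w (t.Ψ r d)))) ?_ ?_ ?_ ?_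
  · intro r
    rw [← Category.assoc]
    refine (congrArg (· ≫ s) (Over.w (Groth.Agent.Hensel.JacTan.i k r))).trans ?_
    exact Category.id_comp _
  · intro r
    rfl
  · intro r l
    rw [← Category.assoc]
    exact congrArg (· ≫ s) (Over.w (Groth.Agent.Hensel.JacTan.mp l))
  · intro d d' h
    exact t.inj 1 (hπm _ _ (congrArg CommaMorphism.left h))
  · intro g' hg'
    have hgl : (i k 1).left ≫ g'.left = g.left := congrArg CommaMorphism.left hg'
    have hr : Set.range g'.left ⊆ Set.range c := by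
      rintro _ ⟨z, rfl⟩
      have y : (pt k).left := (⊥ : PrimeSpectrum k)
      rw [eq_i k 1 z y, ← Scheme.Hom.comp_apply, hgl, hpt y]
      exact hc
    let δ : Spec (CommRingCat.of (Sq k 1)) ⟶ W := IsOpenImmersion.lift c g'.left hr
    have hδ : δ ≫ c = g'.left := IsOpenImmersion.lift_fac _ _ _
    let g'' : T k 1 ⟶ J := Over.homMk (pullback.lift δ (T k 1).hom (by
      rw [reassoc_of% hδ]
      exact Over.w g')) (pullback.lift_snd _ _ _)
    have hg''π : g''.left ≫ π = g'.left := by
      change pullback.lift δ _ _ ≫ pullback.fst (c ≫ Q.hom) s ≫ c = _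
      rw [pullback.lift_fst_assoc, hδ]
    obtain ⟨d, hd⟩ := t.surj 1 g'' (hπm _ _ (by
      rw [Over.comp_left, Category.assoc, hg''π, hx'π]
      exact hgl))
    refine ⟨d, ?_⟩
    ext1
    change (t.Ψ 1 d).left ≫ π = g'.left
    rw [hd, hg''π]
  · intro r d
    ext1
    change (i k r).left ≫ (t.Ψ r d).left ≫ π = g.left
    rw [← Category.assoc, ← Over.comp_left, t.i_Ψ, hx'π]
  · intro r l d
    ext1
    change (t.Ψ 1 (act l d)).left ≫ π = (mp l).left ≫ (t.Ψ r d).left ≫ π
    rw [t.nat, Over.comp_left, Category.assoc]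

end main

end K683.Tan2
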